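import Cfsg.Agent.SL2Free.Basic
import Cfsg.Agent.Fusion.StableConstrained

/-!
A group without sections `SL₂(p)` in automizers has constrained fusion, for every odd `p`.
-/

set_option autoImplicit false

universe u

namespace CfsgLib.SL2Free

open CfsgLib.StableConstrained

variable {p : ℕ} [hp : Fact p.Prime]

/-- Fusion is constrained. -/
theorem constr (hp2 : p ≠ 2) : ∀ (n : ℕ) (G : Type u) [Group G] [Finite G], Nat.card G = n →
    Free p G → ∀ S : Sylow p G, Constr (S : Subgroup G) := by
  intro n
  induction n using Nat.strong_induction_on with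
  | _ n ih =>
    intro G _ _ hn hfr S
    have hst := hfr.stable hp2
    have hsub : ∀ H : Subgroup G, H ≠ ⊤ → ∀ S' : Sylow p H, Constr (S' : Subgroup H) := fun H hH S' => by
      refine ih _ ?_ H rfl (hfr.subgroup H) S'
      have h1 := CfsgLib.GroupAlperin.card_lt_of_lt (lt_top_iff_ne_top.2 hH)
      rw [Subgroup.card_top] at h1
      omega
    set D := Cfsg.dStarOf (S : Subgroup G) with hD
    by_cases hN : Subgroup.normalizer (D : Set G) = ⊤
    swap
    · exact constr_of_normalizer hp2 hst S fun N hNe S' => hsub N (hNe ▸ hN) S'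
    haveI hDn : D.Normal := Subgroup.normalizer_eq_top_iff.1 hN
    have hDS : D ≤ S := Subgroup.map_subtype_le _
    haveI : IsMulCommutative (Cfsg.dStar (S : Subgroup G)) := (CfsgLib.PGroup.dStar_mem_family S.isPGroup').1
    haveI : IsMulCommutative D := Subgroup.map_isMulCommutative _ _
    by_cases hC : Subgroup.centralizer (D : Set G) = ⊤
    swap
    · exact constr_of_centralizer S D hDS (Subgroup.le_centralizer D) (hsub _ hC)
    have hDc : D ≤ Subgroup.center G := Subgroup.centralizer_eq_top_iff_subset.1 hC
    rcases eq_or_ne D ⊥ with hbot | hne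
    · refine ⟨⊥, ⟨bot_le, fun T g _ _ => ⟨1, one_mem _, g, ?_, (one_mul g).symm⟩⟩, ?_⟩
      · rw [Subgroup.normalizer_eq_top]; exact Subgroup.mem_top g
      · rw [dStarOf_eq_bot S.isPGroup' hbot]; exact inf_le_left
    · refine constr_of_quotient S D hDS hDc fun S' => ih _ ?_ (G ⧸ D) rfl
        (hfr.quotient D (S.isPGroup'.to_le hDS)) S'
      have h1 := Subgroup.card_eq_card_quotient_mul_card_subgroup D
      have h2 : 1 < Nat.card D := (Subgroup.one_lt_card_iff_ne_bot (H := D)).2 hne
      have h3 : 0 < Nat.card (G ⧸ D) := Nat.card_pos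
      rw [← hn, h1]
      exact lt_mul_of_one_lt_right h3 h2

end CfsgLib.SL2Free
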