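import Cfsg.Agent.QdFree.Section
import Cfsg.Agent.Fusion.StableQuotient

/-!
Groups without a section `SL₂(p)` in the automizers of `p`-subgroups (adapted from `QdFree.Section`,
keeping the kernel of the section).
-/

set_option autoImplicit false
set_option linter.style.haveILetI false

open Matrix
open scoped commutatorElement

universe u

namespace CfsgLib.SL2Free

variable {p : ℕ} [hp : Fact p.Prime]

/-- Two quadratic elements not acting as a `p`-group give a section `SL₂(p)` of the automizer. -/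
theorem exists_sl2_of_pair (hp2 : p ≠ 2) {G : Type u} [Group G] [Finite G] {P : Subgroup G} (hP : IsPGroup p P)
    {g h : G} (hg : g ∈ Subgroup.normalizer (P : Set G)) (hh : h ∈ Subgroup.normalizer (P : Set G))
    (qg : ∀ v ∈ P, ⁅g, ⁅g, v⁆⁆ = 1) (qh : ∀ v ∈ P, ⁅h, ⁅h, v⁆⁆ = 1)
    (hy : ∃ y ∈ Subgroup.closure {g, h}, (orderOf y).Coprime p ∧ y ∉ Subgroup.centralizer (P : Set G)) :
    ∃ (X : Subgroup G) (f : X →* SpecialLinearGroup (Fin 2) (ZMod p)), X ≤ Subgroup.normalizer (P : Set G) ∧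
      Function.Surjective f ∧ ∀ x : X, (x : G) ∈ Subgroup.centralizer (P : Set G) → f x = 1 := by
  classical
  set H := Subgroup.closure {g, h} with hH
  have hHP : H ≤ Subgroup.normalizer (P : Set G) := (Subgroup.closure_le _).2 (by
    rintro z (rfl | rfl)
    exacts [hg, hh])
  set Bad : Set (Subgroup G) := {Q | Q ≤ P ∧ H ≤ Subgroup.normalizer (Q : Set G) ∧
    ∃ y ∈ H, (orderOf y).Coprime p ∧ y ∉ Subgroup.centralizer (Q : Set G)} with hBad
  obtain ⟨Q, ⟨hQP, hHQ, y, hyH, hyp, hyQ⟩, hQmin⟩ := Set.exists_min_image Bad (fun Q => Nat.card Q)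
    (Set.toFinite _) ⟨P, le_rfl, hHP, hy⟩
  have hQp : IsPGroup p Q := hP.to_le hQP
  set F := CfsgLib.Transfer.phi Q with hF
  have hQne : Q ≠ ⊥ := fun h0 => hyQ (Subgroup.mem_centralizer_iff.2 fun v hv => by
    rw [h0] at hv
    rw [Subgroup.mem_bot.1 hv, one_mul, mul_one])
  have hFQ : F < Q := lt_of_le_of_ne (CfsgLib.Transfer.phi_le Q) fun e => by
    obtain ⟨x, hx, hx'⟩ := CfsgLib.Transfer.exists_not_mem_phi hQne
    exact hx' (e.ge hx)
  set Mid : Set (Subgroup G) := {M | F ≤ M ∧ M < Q ∧ H ≤ Subgroup.normalizer (M : Set G)} with hMid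
  obtain ⟨M, ⟨hFM, hMQ, hHM⟩, hMmax⟩ := Set.exists_max_image Mid (fun M => Nat.card M) (Set.toFinite _)
    ⟨F, le_rfl, hFQ, fun x hx => CfsgLib.Transfer.mem_normalizer_phi (hHQ hx)⟩
  have hQM : Q ≤ Subgroup.normalizer (M : Set G) := fun x hx => Subgroup.mem_normalizer_fintype fun m hm => by
    rw [SetLike.mem_coe, show x * m * x⁻¹ = ⁅x, m⁆ * m by group]
    exact M.mul_mem (hFM (CfsgLib.Transfer.commutatorElement_mem_phi hQp hx (hMQ.le hm))) hm
  set E0 := Q ⊔ H with hE0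
  have hE0M : E0 ≤ Subgroup.normalizer (M : Set G) := sup_le hQM hHM
  have hE0Q : E0 ≤ Subgroup.normalizer (Q : Set G) := sup_le Subgroup.le_normalizer hHQ
  haveI hMn : (M.subgroupOf E0).Normal := Subgroup.normal_subgroupOf_of_le_normalizer hE0M
  haveI hQn : (Q.subgroupOf E0).Normal := Subgroup.normal_subgroupOf_of_le_normalizer hE0Q
  set π := QuotientGroup.mk' (M.subgroupOf E0) with hπ
  set V := (Q.subgroupOf E0).map π with hV
  haveI hVn : V.Normal := hQn.map π (QuotientGroup.mk'_surjective _)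
  have hgE : g ∈ E0 := (le_sup_right : H ≤ E0) (Subgroup.subset_closure (Or.inl rfl))
  have hhE : h ∈ E0 := (le_sup_right : H ≤ E0) (Subgroup.subset_closure (Or.inr rfl))
  have hmemV : ∀ v ∈ V, ∃ (q : G) (hq : q ∈ Q), π ⟨q, (le_sup_left : Q ≤ E0) hq⟩ = v := by
    rintro v ⟨q, hq, rfl⟩
    exact ⟨q, hq, rfl⟩
  have h1M : ∀ x : E0, π x = 1 ↔ (x : G) ∈ M := fun x => QuotientGroup.eq_one_iff x
  have hq2 : ∀ (s : G) (hs : s ∈ E0), (∀ v ∈ P, ⁅s, ⁅s, v⁆⁆ = 1) →
      ∀ v ∈ V, ⁅π ⟨s, hs⟩, ⁅π ⟨s, hs⟩, v⁆⁆ = 1 := by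
    intro s hs hquad v hv
    obtain ⟨q, hq, rfl⟩ := hmemV v hv
    rw [← map_commutatorElement, ← map_commutatorElement, h1M]
    have := hquad q (hQP hq)
    show ⁅s, ⁅s, q⁆⁆ ∈ M
    rw [this]; exact one_mem _
  obtain ⟨X, f, hf, hCX, hfker, -, -⟩ := CfsgLib.StableQuotient.sl2_of_irreducible hp2 V
    (by
      intro v hv w hw
      obtain ⟨q, hq, rfl⟩ := hmemV v hv
      obtain ⟨r, hr, rfl⟩ := hmemV w hw
      rw [← commutatorElement_eq_one_iff_mul_comm, ← map_commutatorElement, h1M]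
      exact hFM (CfsgLib.Transfer.commutatorElement_mem_phi hQp hq hr))
    (by
      intro v hv
      obtain ⟨q, hq, rfl⟩ := hmemV v hv
      rw [← map_pow, h1M]
      exact hFM (CfsgLib.Transfer.pow_mem_phi hQp hq))
    (π ⟨g, hgE⟩) (π ⟨h, hhE⟩)
    (by
      set K := Subgroup.closure {π ⟨g, hgE⟩, π ⟨h, hhE⟩} ⊔ V with hK
      have hle : E0 ≤ (K.comap π).map E0.subtype := by
        refine sup_le (fun q hq => ⟨⟨q, (le_sup_left : Q ≤ E0) hq⟩,
          (le_sup_right : V ≤ K) ⟨⟨q, (le_sup_left : Q ≤ E0) hq⟩, hq, rfl⟩, rfl⟩) ((Subgroup.closure_le _).2 ?_)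
        rintro z (rfl | rfl)
        · exact ⟨⟨z, hgE⟩, (le_sup_left : _ ≤ K) (Subgroup.subset_closure (Or.inl rfl)), rfl⟩
        · exact ⟨⟨z, hhE⟩, (le_sup_left : _ ≤ K) (Subgroup.subset_closure (Or.inr rfl)), rfl⟩
      refine eq_top_iff.2 fun x _ => ?_
      obtain ⟨x, rfl⟩ := QuotientGroup.mk'_surjective _ x
      obtain ⟨x', hx', hxe⟩ := hle x.2
      obtain rfl : x' = x := Subtype.ext hxe
      exact hx')
    (hq2 g hgE qg) (hq2 h hhE qh)
    (by
      intro W hW hWV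
      set W' := (W.comap π).map E0.subtype with hW'
      have hMW : M ≤ W' := fun m hm => ⟨⟨m, (le_sup_left : Q ≤ E0) (hMQ.le hm)⟩, by
        show π _ ∈ W
        rw [(h1M _).2 hm]; exact one_mem W, rfl⟩
      have hWQ : W' ≤ Q := by
        rintro _ ⟨x, hx, rfl⟩
        obtain ⟨q, hq, hqe⟩ := hmemV _ (hWV hx)
        have h3 : (q : G)⁻¹ * x ∈ M := (QuotientGroup.eq.1 hqe : _)
        simpa using Q.mul_mem hq (hMQ.le h3)
      have hHW : H ≤ Subgroup.normalizer (W' : Set G) := fun x hx => Subgroup.le_normalizer_map E0.subtype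
        ⟨⟨x, (le_sup_right : H ≤ E0) hx⟩, by rw [Subgroup.normalizer_eq_top]; exact Subgroup.mem_top _, rfl⟩
      rcases eq_or_lt_of_le hWQ with h0 | h0
      · refine Or.inr (le_antisymm hWV fun v hv => ?_)
        obtain ⟨q, hq, rfl⟩ := hmemV v hv
        obtain ⟨x, hx, hxe⟩ := h0.ge hq
        obtain rfl : x = ⟨q, (le_sup_left : Q ≤ E0) hq⟩ := Subtype.ext hxe
        exact hx
      · refine Or.inl (eq_bot_iff.2 fun w hw => ?_)
        obtain ⟨x, rfl⟩ := QuotientGroup.mk'_surjective _ w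
        rw [Subgroup.mem_bot, ← hπ, h1M]
        have hWM : W' = M := (Subgroup.eq_of_le_of_card_ge hMW (hMmax W' ⟨hFM.trans hMW, h0, hHW⟩)).symm
        exact hWM.le ⟨x, hw, rfl⟩)
    (by
      refine ⟨π ⟨y, (le_sup_right : H ≤ E0) hyH⟩, hyp.coprime_dvd_left ((orderOf_map_dvd π _).trans
        (Subgroup.orderOf_mk y _).dvd), fun hc => hyQ ?_⟩
      have hMC : y ∈ Subgroup.centralizer (M : Set G) := by
        by_contra hc'
        have h4 := hQmin M ⟨hMQ.le.trans hQP, hHM, y, hyH, hyp, hc'⟩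
        exact hMQ.ne (Subgroup.eq_of_le_of_card_ge hMQ.le h4)
      obtain ⟨n, hn⟩ := IsPGroup.iff_card.1 (hQp.to_le hMQ.le)
      refine CfsgLib.CoprimeAction.le_centralizer_of_chain (A := Subgroup.zpowers y) (N := M) (K := Q)
        (by rw [Nat.card_zpowers, hn]; exact hyp.pow_right n) (Subgroup.zpowers_le.2 hMC) ?_
        (Subgroup.mem_zpowers y)
      refine Subgroup.commutator_le.2 fun q hq z hz => ?_
      obtain ⟨i, rfl⟩ := Subgroup.mem_zpowers_iff.1 hz
      have hyE : y ∈ E0 := (le_sup_right : H ≤ E0) hyH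
      have h5 : π ⁅(⟨q, (le_sup_left : Q ≤ E0) hq⟩ : E0), (⟨y, hyE⟩ : E0) ^ i⁆ = 1 := by
        rw [map_commutatorElement, map_zpow, commutatorElement_eq_one_iff_mul_comm]
        exact ((show Commute (π ⟨q, (le_sup_left : Q ≤ E0) hq⟩) (π ⟨y, hyE⟩) from
          Subgroup.mem_centralizer_iff.1 hc _ ⟨⟨q, (le_sup_left : Q ≤ E0) hq⟩, hq, rfl⟩).zpow_right i).eq
      have h6 := (h1M _).1 h5
      simpa [commutatorElement_def] using h6)
  set e := ((X.comap π).equivMapOfInjective _ E0.subtype_injective).symm with he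
  refine ⟨(X.comap π).map E0.subtype, (f.comp (π.subgroupComap X)).comp e.toMonoidHom,
    (Subgroup.map_subtype_le _).trans (sup_le (hQP.trans Subgroup.le_normalizer) hHP), ?_, ?_⟩
  · refine Function.Surjective.comp (g := f.comp (π.subgroupComap X)) (hf.comp ?_) (MulEquiv.surjective _)
    intro x
    obtain ⟨z, hz⟩ := QuotientGroup.mk'_surjective _ (x : E0 ⧸ M.subgroupOf E0)
    exact ⟨⟨z, by show π z ∈ X; rw [hπ, hz]; exact x.2⟩, Subtype.ext hz⟩
  · intro x hx
    have hxe : (((e x : X.comap π) : E0) : G) = (x : G) :=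
      congrArg Subtype.val (((X.comap π).equivMapOfInjective _ E0.subtype_injective).apply_symm_apply x)
    show f (π.subgroupComap X (e x)) = 1
    rw [hfker]
    refine Subgroup.mem_centralizer_iff.2 fun v hv => ?_
    obtain ⟨q, hq, rfl⟩ := hmemV v hv
    show π _ * π _ = π _ * π _
    rw [← map_mul, ← map_mul]
    refine congrArg π (Subtype.ext ?_)
    show q * (((e x : X.comap π) : E0) : G) = (((e x : X.comap π) : E0) : G) * q
    rw [hxe]
    exact Subgroup.mem_centralizer_iff.1 hx q (hQP hq)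

/-- Failure of `p`-stability gives a section `SL₂(p)` of the automizer. -/
theorem exists_sl2_of_not_mem_pCore (hp2 : p ≠ 2) {G : Type u} [Group G] [Finite G] {P : Subgroup G}
    (hP : IsPGroup p P) {g : G} (hg : g ∈ Subgroup.normalizer (P : Set G))
    (hq : ⁅⁅P, Subgroup.zpowers g⁆, Subgroup.zpowers g⁆ = ⊥)
    (hne : (QuotientGroup.mk (s := (Subgroup.centralizer (P : Set G)).subgroupOf (Subgroup.normalizer (P : Set G)))
        (⟨g, hg⟩ : ↥(Subgroup.normalizer (P : Set G)))) ∉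
      Cfsg.pCore p (↥(Subgroup.normalizer (P : Set G)) ⧸
        (Subgroup.centralizer (P : Set G)).subgroupOf (Subgroup.normalizer (P : Set G)))) :
    ∃ (X : Subgroup G) (f : X →* SpecialLinearGroup (Fin 2) (ZMod p)), X ≤ Subgroup.normalizer (P : Set G) ∧
      Function.Surjective f ∧ ∀ x : X, (x : G) ∈ Subgroup.centralizer (P : Set G) → f x = 1 := by
  set N := Subgroup.normalizer (P : Set G) with hN
  set C := (Subgroup.centralizer (P : Set G)).subgroupOf N with hC
  set π := QuotientGroup.mk' C with hπ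
  rw [CfsgLib.Subnormal.mem_pCore_iff] at hne
  push Not at hne
  obtain ⟨xb, hxb⟩ := hne
  obtain ⟨x, rfl⟩ := QuotientGroup.mk'_surjective C xb
  set g' : N := ⟨g, hg⟩ with hg'
  set h' : N := x * g' * x⁻¹ with hh'
  set H' := Subgroup.closure ({g', h'} : Set N) with hH'
  have himg : H'.map π = Subgroup.closure ({π g', π x * π g' * (π x)⁻¹} : Set (N ⧸ C)) := by
    rw [hH', MonoidHom.map_closure, Set.image_pair, hh', map_mul, map_mul, map_inv]
  have hex : ∃ z ∈ H'.map π, (orderOf z).Coprime p ∧ z ≠ 1 := by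
    by_contra hc
    push Not at hc
    exact hxb ((CfsgLib.PCore.isPGroup_of_forall_coprime (H'.map π) hc).to_le himg.ge)
  obtain ⟨_, ⟨y, hy, rfl⟩, hyp, hy1⟩ := hex
  obtain ⟨s, c, hsc, -, ⟨j, hj⟩, hc, hs, hcz⟩ := CfsgLib.Transfer.exists_pPart_mul (p := p) y
  have hπs : π s = 1 := by
    obtain ⟨i, hi⟩ := Subgroup.mem_zpowers_iff.1 hs
    exact orderOf_eq_one_iff.1 (Nat.eq_one_of_dvd_coprimes (hyp.pow_right j)
      (hi ▸ (by rw [map_zpow]; exact orderOf_dvd_of_mem_zpowers (Subgroup.zpow_mem_zpowers _ i)))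
      (hj ▸ orderOf_map_dvd π s))
  have hquad : ∀ v ∈ P, ⁅g, ⁅g, v⁆⁆ = 1 := by
    intro v hv
    have h1 : ⁅⁅v, g⁆, g⁆ = 1 := Subgroup.mem_bot.1 (hq ▸ Subgroup.commutator_mem_commutator
      (Subgroup.commutator_mem_commutator hv (Subgroup.mem_zpowers g)) (Subgroup.mem_zpowers g))
    rw [commutatorElement_eq_one_iff_mul_comm] at h1 ⊢
    rw [← commutatorElement_inv v g]
    exact ((show Commute ⁅v, g⁆ g from h1).inv_left).eq.symm
  refine exists_sl2_of_pair hp2 hP hg h'.2 hquad (fun v hv => ?_) ?_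
  · have h1 := hquad ((x : G)⁻¹ * v * x) (by
      simpa using (Subgroup.mem_normalizer_iff.1 (N.inv_mem x.2) v).1 hv)
    have h2 : (h' : G) = (x : G) * g * (x : G)⁻¹ := rfl
    rw [h2]
    calc ⁅(x : G) * g * (x : G)⁻¹, ⁅(x : G) * g * (x : G)⁻¹, v⁆⁆
        = (x : G) * ⁅g, ⁅g, (x : G)⁻¹ * v * x⁆⁆ * (x : G)⁻¹ := by
          simp only [commutatorElement_def]; group
      _ = 1 := by rw [h1]; group
  · refine ⟨(c : G), ?_, by rwa [Subgroup.orderOf_coe], fun hcC => hy1 ?_⟩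
    · have h3 : c ∈ H' := (Subgroup.zpowers_le.2 hy) hcz
      have h4 : H'.map N.subtype = Subgroup.closure {g, (h' : G)} := by
        rw [hH', MonoidHom.map_closure, Set.image_pair]; rfl
      exact h4.le ⟨c, h3, rfl⟩
    · rw [hsc, map_mul, hπs, one_mul]
      exact (QuotientGroup.eq_one_iff c).2 hcC

/-- No automizer of a `p`-subgroup has a section `SL₂(p)`. -/
def Free (p : ℕ) [Fact p.Prime] (G : Type u) [Group G] : Prop :=
  ∀ P : Subgroup G, IsPGroup p P → ¬ ∃ (X : Subgroup G) (f : X →* SpecialLinearGroup (Fin 2) (ZMod p)),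
    X ≤ Subgroup.normalizer (P : Set G) ∧ Function.Surjective f ∧
      ∀ x : X, (x : G) ∈ Subgroup.centralizer (P : Set G) → f x = 1

theorem Free.stable (hp2 : p ≠ 2) {G : Type u} [Group G] [Finite G] (h : Free p G) :
    Cfsg.IsNormalizerPStable p G := fun P hP g hg hq => by
  by_contra hne
  exact h P hP (exists_sl2_of_not_mem_pCore hp2 hP hg hq hne)

theorem Free.subgroup {G : Type u} [Group G] (h : Free p G) (H : Subgroup G) : Free p H := by
  rintro P hP ⟨X, f, hX, hf, hC⟩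
  let e := (X.equivMapOfInjective H.subtype H.subtype_injective).symm
  refine h _ (hP.map H.subtype) ⟨X.map H.subtype, f.comp e.toMonoidHom,
    (Subgroup.map_mono hX).trans (Subgroup.le_normalizer_map _), hf.comp e.surjective, fun x hx => hC _ ?_⟩
  have hxe : (((e x : X) : H) : G) = (x : G) :=
    congrArg Subtype.val ((X.equivMapOfInjective H.subtype H.subtype_injective).apply_symm_apply x)
  refine Subgroup.mem_centralizer_iff.2 fun v hv => Subtype.ext ?_
  show (v : G) * (((e x : X) : H) : G) = (((e x : X) : H) : G) * (v : G)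
  rw [hxe]
  exact Subgroup.mem_centralizer_iff.1 hx v ⟨v, hv, rfl⟩

theorem Free.quotient {G : Type u} [Group G] [Finite G] (h : Free p G) (Z : Subgroup G) [Z.Normal] (hZ : IsPGroup p Z) :
    Free p (G ⧸ Z) := by
  rintro Pb hPb ⟨Xb, f, hX, hf, hC⟩
  set π := QuotientGroup.mk' Z
  refine h (Pb.comap π) (hPb.comap_of_ker_isPGroup π (by rwa [QuotientGroup.ker_mk']))
    ⟨Xb.comap π, f.comp (π.subgroupComap Xb), fun x hx => ?_, hf.comp ?_, fun x hx => hC _ ?_⟩
  · refine Subgroup.mem_normalizer_iff.2 fun v => ?_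
    show π v ∈ Pb ↔ π (x * v * x⁻¹) ∈ Pb
    rw [map_mul, map_mul, map_inv]
    exact Subgroup.mem_normalizer_iff.1 (hX hx) (π v)
  · intro x
    obtain ⟨z, hz⟩ := QuotientGroup.mk'_surjective Z (x : G ⧸ Z)
    exact ⟨⟨z, by show π z ∈ Xb; rw [hz]; exact x.2⟩, Subtype.ext hz⟩
  · refine Subgroup.mem_centralizer_iff.2 fun v hv => ?_
    obtain ⟨v, rfl⟩ := QuotientGroup.mk'_surjective Z v
    show π v * π x = π x * π v
    rw [← map_mul, ← map_mul, Subgroup.mem_centralizer_iff.1 hx v hv]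

end CfsgLib.SL2Free
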